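import Groth.Agent.GenSepPt.FunField
import Groth.Agent.CurveOmega.Omega

/-!
Over an algebraically closed field some ratio of canonical sections has nonzero differential.
-/

set_option autoImplicit false
set_option backward.isDefEq.respectTransparency false
set_option linter.style.haveILetI false
set_option linter.unusedSectionVars false
set_option maxHeartbeats 1000000

universe u

open CategoryTheory CategoryTheory.Limits AlgebraicGeometry TopologicalSpace Opposite
open Groth.Agent.WeakAssLib (mgerm mgerm_res mgerm_smul)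
open Groth.Agent.RefStalk (toGen msp msp_germ msp_smul)
open Groth.Agent.RefDiv (St dv)
open Groth.Agent.QC (res)
open Groth.Agent.CurveOmega
open TMul (IsGen)

noncomputable section

namespace Groth.Agent.GenSepPt

attribute [local instance] CurveRR.secMod kAlg

variable {k : Type u} [Field k] {X : Scheme.{u}} [X.Over (Spec (CommRingCat.of k))] [IsIntegral X]
  [IsLocallyNoetherian X] [IsAlgClosed k]
variable (hC : Curve.IsSmoothProperCurve k X (X ↘ Spec (CommRingCat.of k)))
variable {Om : X.Modules} {d : OmegaSh.Der (X ↘ Spec (CommRingCat.of k)) Om} (hd : OmegaSh.IsUniversal d)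

include hC hd in
/-- The differential of a function vanishes only if its Kähler differential does. -/
theorem D_eq_zero_of_dl {φ : X.functionField} (h : dl d φ = 0) :
    KaehlerDifferential.D k X.functionField φ = 0 := by
  have hK := isFunctionField hC
  have hlat := RefDiv.lat_of_isInvertible (isInvertible hC hd)
  obtain ⟨P₀⟩ := FunFld.exists_place_any hK
  obtain ⟨s, hs⟩ := FunFld.exists_val P₀ (-1)
  obtain ⟨H, hH⟩ := FunFld.exists_hasse_at hK hs
  have hs0 := (dl_param hC hd P₀ hs hH).2.1
  obtain ⟨g, hg, -⟩ := hlat.gen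
  obtain ⟨E, hE⟩ := exists_derivation (d := d) hg hlat
  by_contra hne
  obtain ⟨c, hc⟩ := exists_smul_eq_of_finrank_eq_one
    (FunFld.finrank_kaehler hK (FunFld.isGeometric_of_perfect hK)) hne (KaehlerDifferential.D k X.functionField s)
  refine hs0 ?_
  rw [← hE s, ← Derivation.liftKaehlerDifferential_comp_D E s, ← hc, map_smul,
    Derivation.liftKaehlerDifferential_comp_D E φ]
  have hEφ : E φ = 0 := by
    by_contra h0
    exact h0 ((smul_eq_zero.1 ((hE φ).trans h)).resolve_right hg)
  rw [hEφ, smul_zero]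
  exact zero_smul X.functionField g

include hC in
/-- A ratio of global sections lies in the Riemann–Roch space. -/
theorem mem_L {L : X.Modules} (hL : PicF.IsInvertible L) {s : St L} (hs : s ≠ 0) (t : Γ(L, (⊤ : X.Opens)))
    {φ : X.functionField} (h : φ • s = mgerm L (topη X) t) : φ ∈ FunFld.L (divOf hC L s) := fun P => by
  have hlat := RefDiv.lat_of_isInvertible hL
  rcases eq_or_ne φ 0 with h0 | h0
  · rw [h0, map_zero]; exact zero_le
  obtain ⟨m, hm⟩ := hlat.exists_span (normal hC) (coheight_pt hC P)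
  obtain ⟨ψ, hψ, hψs⟩ := hlat.exists_coeff hm hs
  obtain ⟨r, hr⟩ := RefDiv.exists_smul_of_span hm (WeakAssLib.mgerm L (mem_top' (pt hC P)) t)
  have e : (φ * ψ) • msp L (toGen (pt hC P)) m = RefDiv.sp (pt hC P) r • msp L (toGen (pt hC P)) m := by
    rw [mul_smul, hψs, h]
    refine Eq.trans ?_ (msp_smul L (toGen (pt hC P)) r m)
    rw [hr]
    exact (msp_germ L (toGen (pt hC P)) _ t).symm
  have hnn : 0 ≤ Scheme.ord (φ * ψ) (pt hC P) := by
    rw [RefDiv.ord_nonneg_iff (normal hC) (coheight_pt hC P) (mul_ne_zero h0 hψ)]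
    exact ⟨r, (RefDiv.smul_cancel (hlat.msp_ne_zero hm) e).symm⟩
  rw [Scheme.ord_mul h0 hψ, ord_pt hC P h0] at hnn
  rw [FunFld.val_eq_exp P h0, divOf_apply hC hL hs, WithZero.exp_le_exp, dvp, dv,
    hlat.secOrdAt_mk (coheight_pt hC P) hm hψ hψs]
  omega

include hC hd in
/-- Some ratio has nonzero differential. -/
theorem exists_d_ne_zero {L : X.Modules} (hL : PicF.IsInvertible L) {n : ℕ} (hn : 2 ≤ n)
    (hg : 0 < Curv2.genus k X) (hdeg : Curv2.deg k X L 1 ≤ 2 * (n : ℤ) - 2)
    (s : Fin n → Γ(L, (⊤ : X.Opens))) (hs : ∀ a : Fin n → k, ∑ i, CurveRR.cst k X ⊤ (a i) • s i = 0 → a = 0)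
    (t : Γ(L, (⊤ : X.Opens))) {W : X.Opens} (hW : genericPoint X ∈ W)
    (ht : IsGen (res L (le_top : W ≤ ⊤) t)) (c : Fin n → Γ(X, W))
    (hc : ∀ i, res L (le_top : W ≤ ⊤) (s i) = c i • res L (le_top : W ≤ ⊤) t) :
    ∃ i, d.app W (c i) ≠ 0 := by
  obtain ⟨hgen, hall⟩ := deg_genus hC
  have hK := isFunctionField hC
  let σ := mgerm L (topη X) t
  let φ : Fin n → X.functionField := fun i => (X.presheaf.germ W _ hW).hom (c i)
  have hφ : ∀ i, φ i • σ = mgerm L (topη X) (s i) := fun i => by
    rw [show σ = mgerm L hW (res L (le_top : W ≤ ⊤) t) from (mgerm_res L le_top hW t).symm,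
      ← mgerm_res L (le_top : W ≤ ⊤) hW (s i), hc i, mgerm_smul]
  have hσ : σ ≠ 0 := fun h0 => by
    have e : s = 0 := funext fun i => CurveRR.eq_zero_of_germ_generic hL _ (topη X) (by
      rw [← hφ i, h0]; exact smul_zero (φ i))
    have := congrFun (hs (fun _ => 1) (by simp [e])) ⟨0, by omega⟩
    simp at this
  have hind : LinearIndependent k φ := by
    rw [Fintype.linearIndependent_iff]
    intro a ha
    refine congrFun (hs a (CurveRR.eq_zero_of_germ_generic hL _ (topη X) ?_))
    rw [map_sum]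
    calc ∑ i, mgerm L (topη X) (CurveRR.cst k X ⊤ (a i) • s i)
        = ∑ i, (a i • φ i) • σ := Finset.sum_congr rfl fun i _ => by
          rw [Algebra.smul_def, mul_smul, hφ i, ← mgerm_cst, CurveRR.smul_def]
      _ = (∑ i, a i • φ i) • σ := Finset.sum_smul.symm
      _ = 0 := by rw [ha]; exact zero_smul X.functionField σ
  have hgen' : 0 < FunFld.genus k X.functionField := by rw [← hgen]; exact hg
  obtain ⟨i, hi⟩ := exists_D_ne_zero hK hgen' (divOf hC L σ) hn (by rw [hall L hL σ hσ]; exact hdeg) φ hind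
    fun i => mem_L hC hL hσ (s i) (hφ i)
  refine ⟨i, fun h0 => hi (D_eq_zero_of_dl hC hd ?_)⟩
  show dl d ((X.presheaf.germ W _ hW).hom (c i)) = 0
  rw [dl_germ, h0, map_zero]

end Groth.Agent.GenSepPt
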