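import Groth.Agent.FunFld.Geometric2
import Groth.Agent.CurveOmega.CliffordDiv

/-!
A large space `L(C)` of small degree has an element with nonzero differential.
-/

set_option autoImplicit false
set_option backward.isDefEq.respectTransparency false
set_option linter.style.haveILetI false
set_option linter.unusedSectionVars false

universe u

open _root_.FunFld WithZero

noncomputable section

namespace Groth.Agent.GenSepPt

variable {k K : Type u} [Field k] [IsAlgClosed k] [Field K] [Algebra k K]

open FunFld in
/-- `ℓ(E) ≤ 1` for degree at most one on a field of positive genus (copied from `LimSer.Chain`, whose imports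
clash with the Hasse derivative library). -/
theorem ell_le_one
    (hK : IsFunctionField k K) (hg : 0 < genus k K) {E : Divisor k K} (hE : E.deg ≤ 1) : ell E ≤ 1 := by
  classical
  by_contra h
  have hne : L E ≠ ⊥ := fun e => by rw [ell, e, finrank_bot] at h; omega
  obtain ⟨x, hx, hpos⟩ := exists_effective hK hne
  set F := E + div k x
  have hF : F.deg ≤ 1 := by rw [deg_add, deg_div hK]; omega
  have hlF : 2 ≤ ell F := by rw [ell_add_div hK E hx]; omega
  have hF0 : F ≠ 0 := fun e => by rw [e, ell_zero hK] at hlF; omega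
  obtain ⟨P, hP⟩ : ∃ P, F P ≠ 0 := by
    by_contra h0; push Not at h0; exact hF0 (Finsupp.ext h0)
  have hP1 : (1 : ℤ) ≤ F P := by
    have h1 : (0 : ℤ) ≤ F P := hpos P
    omega
  have hle : Finsupp.single P 1 ≤ F := fun R => by
    rcases eq_or_ne R P with rfl | hR
    · rw [Finsupp.single_eq_same]; exact hP1
    · rw [Finsupp.single_eq_of_ne hR]; exact hpos R
  have he : Finsupp.single P 1 = F := eq_of_le_of_deg hK hle (by rw [deg_single, deg_eq_one hK]; push_cast; omega)
  have hne' : ¬ L (Finsupp.single P 1) ≤ L (0 : Divisor k K) := fun hl => by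
    have := L_finite hK (0 : Divisor k K)
    have h1 : ell (Finsupp.single P 1) ≤ ell (0 : Divisor k K) := Submodule.finrank_mono hl
    rw [ell_zero hK, he] at h1
    omega
  obtain ⟨t, ht, ht'⟩ := SetLike.not_le_iff_exists.1 hne'
  have ht0 : t ≠ 0 := fun e => ht' (e ▸ zero_mem _)
  have hnn : ∀ Q, Q ≠ P → 0 ≤ Q.ord t := fun Q hQ => by
    have := ht Q
    rw [le_exp_iff Q ht0, Finsupp.single_eq_of_ne hQ] at this
    omega
  have ho : P.ord t = -1 := by
    obtain ⟨Q, hQ⟩ := not_forall.1 ht'
    rw [le_exp_iff Q ht0, Finsupp.coe_zero, Pi.zero_apply] at hQ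
    rcases eq_or_ne Q P with rfl | hne
    · have := ht Q
      rw [le_exp_iff Q ht0, Finsupp.single_eq_same] at this
      omega
    · have := hnn Q hne; omega
  have := (rational_props hK (adjoin_eq_top_of_simple_pole hK (deg_eq_one hK P) ho hnn)).2.1
  omega

variable (hK : IsFunctionField k K)

include hK in
/-- On a field of positive genus `ℓ(E) ≤ max 1 (deg E)`. -/
theorem ell_le (hg : 0 < genus k K) : ∀ (n : ℕ) (E : Divisor k K), E.deg ≤ n → 1 ≤ n → ell E ≤ n := by
  intro n
  induction n with
  | zero => intro E _ h; omega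
  | succ n ih =>
    intro E hE _
    rcases Nat.eq_zero_or_pos n with rfl | hn
    · exact ell_le_one hK hg (by simpa using hE)
    obtain ⟨P⟩ := FunFld.exists_place_any hK
    refine (CurveOmega.Cliff.ell_le_sub_single hK E P).trans (Nat.succ_le_succ (ih _ ?_ hn))
    rw [FunFld.deg_sub, FunFld.deg_single, FunFld.deg_eq_one hK P]
    push_cast at hE ⊢
    omega

include hK in
/-- A space of functions of small degree and large dimension has a nonzero differential. -/
theorem exists_D_ne_zero (hg : 0 < genus k K) (C : Divisor k K) {n : ℕ} (hn : 2 ≤ n) (hC : C.deg ≤ 2 * (n : ℤ) - 2)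
    (f : Fin n → K) (hf : LinearIndependent k f) (hmem : ∀ i, f i ∈ L C) :
    ∃ i, KaehlerDifferential.D k K (f i) ≠ 0 := by
  classical
  by_contra! h0
  have hgeo := FunFld.isGeometric_of_perfect hK
  obtain hc | ⟨p, hp, hpk⟩ := CharP.exists' k
  · -- constants only
    have hconst : ∀ i, f i ∈ Submodule.span k ({1} : Set K) := fun i => by
      by_contra hi
      have htr : Transcendental k (f i) := fun halg => by
        obtain ⟨c, hc⟩ := hK.2 _ halg
        exact hi (Submodule.mem_span_singleton.2 ⟨c, by rw [← hc, Algebra.smul_def, mul_one]⟩)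
      haveI : CharZero (IntermediateField.adjoin k ({f i} : Set K)) :=
        charZero_of_injective_algebraMap (algebraMap k _).injective
      haveI := FunFld.finite_adjoin hK htr
      haveI : Algebra.IsSeparable (IntermediateField.adjoin k ({f i} : Set K)) K := inferInstance
      exact FunFld.D_ne_zero hK (h0 i)
    have hli : LinearIndependent k fun i => (⟨f i, hconst i⟩ : Submodule.span k ({1} : Set K)) :=
      LinearIndependent.of_comp (Submodule.span k ({1} : Set K)).subtype hf
    have := hli.fintype_card_le_finrank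
    rw [Fintype.card_fin, finrank_span_singleton one_ne_zero] at this
    omega
  haveI : CharP K p := .of_ringHom_of_ne_zero (algebraMap k K) p hp.out.ne_zero
  haveI : ExpChar k p := .prime hp.out
  haveI : ExpChar K p := .prime hp.out
  -- everything is a power
  have hroot : ∀ x : K, KaehlerDifferential.D k K x = 0 → ∃ y : K, y ^ p = x := fun x hx => by
    have hx' := (FunFld.mem_kKp_iff p hK hgeo x).1.2 hx
    induction hx' using IntermediateField.adjoin_induction with
    | mem w hw => exact hw
    | algebraMap c =>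
      obtain ⟨d, hd⟩ := IsAlgClosed.exists_pow_nat_eq c hp.out.pos
      exact ⟨algebraMap k K d, by rw [← map_pow, hd]⟩
    | add a b ha hb iha ihb =>
      obtain ⟨s, rfl⟩ := iha (FunFld.D_eq_zero_of_mem p ha)
      obtain ⟨t, rfl⟩ := ihb (FunFld.D_eq_zero_of_mem p hb)
      exact ⟨s + t, add_pow_char s t p⟩
    | inv a ha iha =>
      obtain ⟨s, rfl⟩ := iha (FunFld.D_eq_zero_of_mem p ha)
      exact ⟨s⁻¹, inv_pow _ _⟩
    | mul a b ha hb iha ihb =>
      obtain ⟨s, rfl⟩ := iha (FunFld.D_eq_zero_of_mem p ha)
      obtain ⟨t, rfl⟩ := ihb (FunFld.D_eq_zero_of_mem p hb)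
      exact ⟨s * t, mul_pow _ _ _⟩
  choose y hy using fun i => hroot (f i) (h0 i)
  -- the roots are independent
  have hyind : LinearIndependent k y := by
    rw [Fintype.linearIndependent_iff]
    intro c hc
    have h1 : ∑ i, (c i) ^ p • f i = 0 := by
      have := congrArg (frobenius K p) hc
      rw [map_sum, map_zero] at this
      rw [← this]
      refine Finset.sum_congr rfl fun i _ => ?_
      rw [frobenius_def, Algebra.smul_def, Algebra.smul_def, mul_pow, hy i, map_pow]
    intro i
    exact (pow_eq_zero_iff hp.out.ne_zero).1 (Fintype.linearIndependent_iff.1 hf _ h1 i)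
  let E : Divisor k K := C.mapRange (fun m : ℤ => m / (p : ℤ)) (Int.zero_ediv _)
  have hymem : ∀ i, y i ∈ L E := fun i P => by
    rcases eq_or_ne (y i) 0 with hz | hz
    · rw [hz, map_zero]; exact zero_le
    have hi := hmem i P
    rw [← hy i, FunFld.val_pow_eq P hz, WithZero.exp_le_exp] at hi
    rw [FunFld.val_eq_exp P hz, WithZero.exp_le_exp, Finsupp.mapRange_apply,
      Int.le_ediv_iff_mul_le (by exact_mod_cast hp.out.pos)]
    linarith
  have hdeg : (p : ℤ) * E.deg ≤ C.deg := by
    have hd : ∀ D : Divisor k K, D.deg = D.sum fun _ m => m := fun D =>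
      Finsupp.sum_congr fun P _ => by rw [FunFld.deg_eq_one hK P, Nat.cast_one, mul_one]
    rw [hd, hd, Finsupp.sum_mapRange_index (fun _ => rfl), Finsupp.mul_sum]
    refine Finset.sum_le_sum fun P _ => ?_
    exact Int.mul_ediv_self_le (by exact_mod_cast hp.out.ne_zero)
  have hE : E.deg ≤ ((n - 1 : ℕ) : ℤ) := by
    have h2 : (2 : ℤ) ≤ p := by exact_mod_cast hp.out.two_le
    by_contra hlt
    push Not at hlt
    have : (2 : ℤ) * E.deg ≤ (p : ℤ) * E.deg := by nlinarith
    omega
  haveI := FunFld.L_finite hK E
  have hli : LinearIndependent k fun i => (⟨y i, hymem i⟩ : L E) := LinearIndependent.of_comp (L E).subtype hyind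
  have h1 := hli.fintype_card_le_finrank
  rw [Fintype.card_fin] at h1
  have h2 := ell_le hK hg (n - 1) E hE (by omega)
  have h3 : n ≤ ell E := h1
  omega

end Groth.Agent.GenSepPt
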