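import Groth.Agent.GenSepPt.Closed
import Groth.Agent.CurveOmega.BarVeryAmple
import Groth.Agent.CurveOmega.General

/-!
Over any field some ratio of canonical sections has nonzero differential.
-/

set_option autoImplicit false
set_option backward.isDefEq.respectTransparency false
set_option backward.isDefEq.respectTransparency.types false
set_option linter.style.haveILetI false
set_option linter.unusedSectionVars false
set_option maxHeartbeats 1000000

universe u

open CategoryTheory CategoryTheory.Limits AlgebraicGeometry TopologicalSpace Opposite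
open Groth.Agent.CohFinite
open Groth.Agent.QC (res resO res_res res_smul res_self)
open TMul (IsGen homOf val_homOf)

noncomputable section

namespace Groth.Agent.GenSepPt

open CurveOmega

variable (k : Type u) [Field k] (X : Scheme.{u}) [X.Over (Spec (CommRingCat.of k))]
  [IsProper (X ↘ Spec (CommRingCat.of k))] [Smooth (X ↘ Spec (CommRingCat.of k))] [IsIntegral X]
  (hdim : topologicalKrullDim X = 1) (h0 : CurveRR.h k (Coh.structureModule X) 0 = 1)

include hdim h0 in
/-- Two canonical sections whose ratio has nonzero differential. -/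
theorem exists_ratio (hg : 2 ≤ Curv2.genus k X)
    {d : OmegaSh.Der (X ↘ Spec (CommRingCat.of k)) (Omega.sheaf (X ↘ Spec (CommRingCat.of k)))}
    (hd : OmegaSh.IsUniversal d) :
    ∃ (W : X.Opens) (_ : IsAffineOpen W) (t s : Γ(Omega.sheaf (X ↘ Spec (CommRingCat.of k)), (⊤ : X.Opens)))
      (f : Γ(X, W)), genericPoint X ∈ W ∧
        IsGen (res (Omega.sheaf (X ↘ Spec (CommRingCat.of k))) (le_top : W ≤ ⊤) t) ∧
        res (Omega.sheaf (X ↘ Spec (CommRingCat.of k))) (le_top : W ≤ ⊤) s =
          f • res (Omega.sheaf (X ↘ Spec (CommRingCat.of k))) (le_top : W ≤ ⊤) t ∧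
        d.app W f ≠ 0 := by
  haveI := CurveRR.isNoetherian_of_proper k X
  let Om := Omega.sheaf (X ↘ Spec (CommRingCat.of k))
  have hI : PicF.IsInvertible Om := isInvertible_omega k X hdim h0
  letI := CurveRR.secMod k Om ⊤
  haveI := finite_proper k X _ (CurveRR.isCoh_of_inv hI) 0
  haveI : Module.Finite k Γ(Om, ⊤) := Module.Finite.equiv (CurveRR.secH0 (k := k) Om).symm
  have hfin : Module.finrank k Γ(Om, ⊤) = Curv2.genus k X := by
    rw [CurveRR.finrank_sec]; exact (omega_facts' k X hdim h0).1
  let b := Module.finBasisOfFinrankEq k Γ(Om, ⊤) hfin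
  have hs : ∀ a : Fin (Curv2.genus k X) → k, ∑ i, CurveRR.cst k X ⊤ (a i) • b i = 0 → a = 0 := fun a ha =>
    funext fun i => Fintype.linearIndependent_iff.1 b.linearIndependent a (by
      rw [← ha]; exact Finset.sum_congr rfl fun j _ => CurveRR.smul_def _ _ _ _) i
  let t := b ⟨0, by omega⟩
  obtain ⟨W, hW, hηW, hWG⟩ := exists_isAffineOpen_mem_and_subset
    (CurveRR.generic_mem_genLocus hI (b.ne_zero ⟨0, by omega⟩))
  have hgen : IsGen (res Om (le_top : W ≤ ⊤) t) := by
    have h := (TMul.isGen_genLocus (homOf t)).res hWG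
    rw [val_homOf, res_res] at h
    exact h
  choose c hc using fun i => (hgen W le_rfl).2 (res Om (le_top : W ≤ ⊤) (b i))
  have hc' : ∀ i, res Om (le_top : W ≤ ⊤) (b i) = c i • res Om (le_top : W ≤ ⊤) t := fun i => by
    rw [← hc i]; exact congrArg (c i • ·) (res_self _ _ _)
  by_contra hcon
  push Not at hcon
  have hzero : ∀ i, d.app W (c i) = 0 := fun i => hcon W hW t (b i) (c i) hηW hgen (hc' i)
  -- pass to the algebraic closure
  have hC := smoothProper_bar k X hdim h0
  haveI := hC.1
  haveI := hC.2.1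
  haveI : IsIntegral (bar k X) := hC.2.2.1
  haveI : IsLocallyNoetherian (bar k X) :=
    (CurveRR.isNoetherian_of_proper (AlgebraicClosure k) (bar k X)).toIsLocallyNoetherian
  obtain ⟨cm, hcm, -⟩ := OmegaLib.existsUnique_diffCompat (isPullback_bar k X).w.symm hd
    (OmegaSh.dOmega (bar k X ↘ Spec (CommRingCat.of (AlgebraicClosure k))))
  have hd' := OmegaLib.isUniversal_dOmega (bar k X ↘ Spec (CommRingCat.of (AlgebraicClosure k)))
  have hL := PicLoc.isInvertible_pullback (barFst k X) hI
  obtain ⟨eΩ⟩ := nonempty_omega_bar k X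
  obtain ⟨-, -, hdeg, -⟩ := omega_facts (AlgebraicClosure k) (bar k X) hC
  haveI : Surjective (Spec.map (CommRingCat.ofHom (algebraMap k (AlgebraicClosure k)))) :=
    ⟨fun _ => ⟨IsLocalRing.closedPoint _, Subsingleton.elim _ _⟩⟩
  haveI : Surjective (barFst k X) :=
    MorphismProperty.of_isPullback (P := @Surjective) (isPullback_bar k X).flip inferInstance
  have hη' : genericPoint (bar k X) ∈ barFst k X ⁻¹ᵁ W := by
    obtain ⟨z, hz⟩ := (barFst k X).surjective (genericPoint X)
    exact ((genericPoint_spec _).mem_open_set_iff (barFst k X ⁻¹ᵁ W).2).2 ⟨z, trivial, by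
      show barFst k X z ∈ W
      rw [hz]; exact hηW⟩
  have hgen' : IsGen (res _ (le_top : barFst k X ⁻¹ᵁ W ≤ ⊤) (barSec k X Om t)) := by
    have h := (TMul.isGen_genLocus (homOf (barSec k X Om t))).res
      (show barFst k X ⁻¹ᵁ W ≤ _ from ((barFst k X).preimage_mono hWG).trans (genLocus_barSec hI _).ge)
    rw [val_homOf, res_res] at h
    exact h
  obtain ⟨i, hi⟩ := exists_d_ne_zero hC hd' hL (n := Curv2.genus k X) hg
    (by rw [genus_bar k X]; omega)
    (by
      rw [Curv2.deg, CurveRR.euler_eq_of_iso (k := AlgebraicClosure k) eΩ]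
      rw [Curv2.deg] at hdeg
      rw [hdeg, genus_bar k X])
    (fun i => barSec k X Om (b i)) (barSec_independent hI _ hs) (barSec k X Om t) hη' hgen'
    (fun i => ((barFst k X).app W).hom (c i)) (fun i => res_barSec (hc' i))
  refine hi ?_
  rw [← hcm W (c i), hzero i, map_zero]
  exact map_zero _

end Groth.Agent.GenSepPt
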