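import Groth.Agent.GenSepPt.General
import Groth.Agent.CurveOmega.RatPt
import Groth.Agent.CurveFF.Places
import Groth.Agent.W7Cover.Basic
import Mathlib.RingTheory.Spectrum.Prime.Chevalley
import Mathlib.RingTheory.Flat.TorsionFree
import Mathlib.RingTheory.Unramified.Field

/-!
A closed point with separable residue field of degree at most `2g - 2`.
-/

set_option autoImplicit false
set_option backward.isDefEq.respectTransparency false
set_option backward.isDefEq.respectTransparency.types false
set_option linter.style.haveILetI false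
set_option linter.unusedSectionVars false
set_option maxHeartbeats 1000000

universe u

open CategoryTheory CategoryTheory.Limits AlgebraicGeometry TopologicalSpace Opposite
open Groth.Agent.CohFinite Groth.Agent.CurveRR
open Groth.Agent.QC (res resO res_res res_smul app_res res_self resO_resO)
open TMul (IsGen homOf val_homOf)

noncomputable section

namespace Groth.Agent.GenSepPt

attribute [local instance] Curv2.resAlgebra

/-- In an algebra of finite type over an infinite field, a transcendental element takes a rational value. -/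
theorem exists_maximal_sub_mem {k B : Type u} [Field k] [Infinite k] [CommRing B] [IsDomain B] [Algebra k B]
    [Algebra.FiniteType k B] {f : B} (hf : Transcendental k f) :
    ∃ (a : k) (m : Ideal B), m.IsMaximal ∧ f - algebraMap k B a ∈ m := by
  open Polynomial in
  letI : Algebra k[X] B := (Polynomial.aeval f).toRingHom.toAlgebra
  haveI : IsScalarTower k k[X] B := IsScalarTower.of_algebraMap_eq fun c => by
    simp [RingHom.algebraMap_toAlgebra]
  have hinj : Function.Injective (algebraMap (Polynomial k) B) := transcendental_iff_injective.1 hf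
  haveI : Module.IsTorsionFree (Polynomial k) B := by
    haveI : FaithfulSMul (Polynomial k) B := (faithfulSMul_iff_algebraMap_injective _ _).2 hinj
    infer_instance
  haveI : Module.Flat (Polynomial k) B := inferInstance
  haveI : Algebra.FiniteType (Polynomial k) B := Algebra.FiniteType.of_restrictScalars_finiteType k _ _
  haveI : Algebra.FinitePresentation (Polynomial k) B := Algebra.FinitePresentation.of_finiteType.mp inferInstance
  have hopen := PrimeSpectrum.isOpenMap_comap_of_hasGoingDown_of_finitePresentation (R := Polynomial k) (S := B)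
  let p₀ : PrimeSpectrum B := ⟨⊥, Ideal.isPrime_bot⟩
  obtain ⟨_, ⟨h, rfl⟩, hh0, hh⟩ := PrimeSpectrum.isTopologicalBasis_basic_opens.exists_subset_of_mem_open
    (Set.mem_range_self p₀) hopen.isOpen_range
  have hne : h ≠ 0 := fun e => hh0 (e ▸ Ideal.zero_mem _)
  classical
  obtain ⟨a, ha⟩ := Infinite.exists_notMem_finset h.roots.toFinset
  have hev : ¬ h.IsRoot a := fun hr => ha (Multiset.mem_toFinset.2 ((Polynomial.mem_roots hne).2 hr))
  let P : Ideal (Polynomial k) := Ideal.span {Polynomial.X - Polynomial.C a}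
  haveI : P.IsPrime := (Ideal.span_singleton_prime (Polynomial.X_sub_C_ne_zero a)).2 (Polynomial.prime_X_sub_C a)
  obtain ⟨q, hq⟩ := hh (show (⟨P, inferInstance⟩ : PrimeSpectrum (Polynomial k)) ∈ PrimeSpectrum.basicOpen h from
    fun hmem => hev (Polynomial.dvd_iff_isRoot.1 (Ideal.mem_span_singleton.1 hmem)))
  obtain ⟨m, hm, hqm⟩ := q.asIdeal.exists_le_maximal q.2.ne_top
  refine ⟨a, m, hm, hqm ?_⟩
  have hX : (Polynomial.X - Polynomial.C a) ∈ (PrimeSpectrum.comap (algebraMap (Polynomial k) B) q).asIdeal := by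
    rw [hq]; exact Ideal.subset_span rfl
  rw [PrimeSpectrum.comap_asIdeal, Ideal.mem_comap] at hX
  simpa [RingHom.algebraMap_toAlgebra] using hX

variable {k : Type u} [Field k] {X : Scheme.{u}} [X.Over (Spec (CommRingCat.of k))]
  [IsProper (X ↘ Spec (CommRingCat.of k))] [IsIntegral X] [Smooth (X ↘ Spec (CommRingCat.of k))]

/-- A zero of a section has degree at most the degree of the module. -/
theorem finrank_residue_le (hdim : topologicalKrullDim X = 1) {L : X.Modules} (hL : PicF.IsInvertible L)
    {t : Γ(L, (⊤ : X.Opens))} (ht : t ≠ 0) {P : X} (hP : IsClosed ({P} : Set X))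
    (hPn : P ∉ CohB1.genLocus L (homOf t)) :
    FiniteDimensional k (X.residueField P) ∧ (Module.finrank k (X.residueField P) : ℤ) ≤ Curv2.deg k X L 1 := by
  haveI := isNoetherian_of_proper k X
  set I := Scheme.IdealSheafData.vanishingIdeal ⟨{P}, hP⟩ with hIdef
  have hI := isInvertible_pointIdeal hdim.le hP (genericPoint_ne_of_closed (k := k) hdim hP)
    (SmLocalST.isRegularLocalRing_stalk_of_smooth_field (X ↘ Spec (CommRingCat.of k)) _)
  have hN := TMul.isInvertible_tensorMod hI hL
  obtain ⟨u, hu⟩ := mem_range_idealIncl hL ⟨{P}, hP⟩ t fun z hz => by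
    rw [Set.mem_singleton_iff.mp hz]; exact hPn
  have hu0 : homOf u ≠ 0 := fun h0' => ht (by
    have e : u = 0 := by
      have := congrArg (fun φ => TMul.val φ ⊤) h0'
      simp only [val_homOf, res_self] at this
      exact this
    rw [← hu, e, map_zero])
  obtain ⟨hle, -⟩ := deg_le_and_isIso (k := k) hdim.le TMul.isInvertible_structureModule hN (homOf u) hu0
  have he := euler_ideal_tensor (k := k) hL I (point_dim hP)
  rw [DualGeneric.h0_quotMod_residue k hP] at he
  have hpos : 0 < Module.finrank k (X.residueField P) := by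
    rw [← DualGeneric.h0_quotMod_residue k hP]
    exact h0_quotMod_pos (k := k) I (by simp [hIdef])
  refine ⟨Module.finite_of_finrank_pos hpos, ?_⟩
  rw [deg_structure, Curv2.deg, he] at hle
  rw [Curv2.deg]
  linarith

/-- A nonzero canonical section vanishes somewhere. -/
theorem exists_zero (hdim : topologicalKrullDim X = 1) {L : X.Modules} (hdeg : Curv2.deg k X L 1 ≠ 0)
    (t : Γ(L, (⊤ : X.Opens))) : ∃ P, IsClosed ({P} : Set X) ∧ P ∉ CohB1.genLocus L (homOf t) := by
  haveI := isNoetherian_of_proper k X
  obtain ⟨x, hx⟩ : ∃ x, x ∉ CohB1.genLocus L (homOf t) := by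
    by_contra! hall
    have hg : IsGen (TMul.val (homOf t) ⊤) := by
      have h := TMul.isGen_genLocus (homOf t)
      rwa [show CohB1.genLocus L (homOf t) = ⊤ from top_le_iff.mp fun x _ => hall x] at h
    haveI : IsIso (homOf t) := GrT.isIso_of_locally (homOf t)
      (fun U a b hab => (hg U le_top).1 (by
        simpa only [TMul.app_eq_smul, TMul.res_val] using hab))
      fun U s x hx => ⟨U, le_rfl, hx, by
        obtain ⟨a, ha⟩ := (hg U le_top).2 s
        exact ⟨a, by rw [res_self, TMul.app_eq_smul, ← ha]; simp only [TMul.res_val]⟩⟩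
    apply hdeg
    rw [Curv2.deg, ← euler_eq_of_iso (k := k) (asIso (homOf t))]
    ring
  obtain ⟨P, hPx, hPc⟩ := (isClosed_closure (s := ({x} : Set X))).exists_closed_singleton ⟨x, subset_closure rfl⟩
  exact ⟨P, hPc, fun hP => hx ((specializes_iff_mem_closure.mpr hPx).mem_open (CohB1.genLocus L _).2 hP)⟩

/-- Functions algebraic over the constants are constants. -/
theorem exists_cst_of_integral (hdim : topologicalKrullDim X = 1) (h0 : h k (Coh.structureModule X) 0 = 1)
    {W : X.Opens} (hW : genericPoint X ∈ W) {f : Γ(X, W)}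
    (hf : letI := (cst k X W).toAlgebra; IsIntegral k f) : ∃ c : k, f = cst k X W c := by
  let p := X ↘ Spec (CommRingCat.of k)
  letI := CurveFF.ffAlg p
  letI := (cst k X W).toAlgebra
  have hC : Curve.IsSmoothProperCurve k X p := ⟨‹_›, ‹_›, ‹_›, hdim⟩
  let φ : Γ(X, W) →ₐ[k] X.functionField :=
    { (X.presheaf.germ W _ hW).hom with commutes' := fun c => CurveFF.germ_secStr p hW c }
  haveI : Nonempty (⊤ : X.Opens) := ⟨⟨genericPoint X, trivial⟩⟩
  obtain ⟨s, hs⟩ := CurveFF.exists_section hC (⊤ : X.Opens) (φ f)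
    fun x _ => CurveFF.mem_stalk_of_isAlgebraic hC (hf.map φ) x
  letI := secMod k (Coh.structureModule X) ⊤
  haveI := isNoetherian_of_proper k X
  haveI := finite_proper k X _ RefStalk.isCoh_structureModule 0
  haveI : Module.Finite k Γ(Coh.structureModule X, ⊤) := Module.Finite.equiv (secH0 (k := k) _).symm
  have hfin : Module.finrank k Γ(Coh.structureModule X, ⊤) = 1 := by rw [finrank_sec]; exact h0
  have h1 : (show Γ(Coh.structureModule X, ⊤) from (1 : Γ(X, ⊤))) ≠ 0 := fun e =>
    one_ne_zero (α := Γ(X, ⊤)) e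
  obtain ⟨c, hc⟩ := exists_smul_eq_of_finrank_eq_one hfin h1 s
  refine ⟨c, germ_injective_of_isIntegral X (genericPoint X) hW ?_⟩
  show φ f = φ (algebraMap k _ c)
  rw [φ.commutes, ← hs, ← hc]
  show (X.presheaf.germ ⊤ _ trivial).hom (cst k X ⊤ c * 1) = _
  rw [mul_one]
  exact CurveFF.germ_secStr p (W := ⊤) trivial c

/-- A closed point with separable residue field and small degree. -/
theorem exists_separable_point (hdim : topologicalKrullDim X = 1) (h0 : h k (Coh.structureModule X) 0 = 1)
    (hg : 2 ≤ Curv2.genus k X) :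
    ∃ x : X, IsClosed ({x} : Set X) ∧ Algebra.IsSeparable k (X.residueField x) ∧
      Module.finrank k (X.residueField x) ≤ 2 * Curv2.genus k X - 2 ∧ FiniteDimensional k (X.residueField x) := by
  haveI := isNoetherian_of_proper k X
  let p := X ↘ Spec (CommRingCat.of k)
  have hI := CurveOmega.isInvertible_omega k X hdim h0
  obtain ⟨e0, -, edeg⟩ := CurveOmega.omega_facts' k X hdim h0
  have fin : ∀ (t : Γ(Omega.sheaf p, (⊤ : X.Opens))), t ≠ 0 → ∀ P : X, IsClosed ({P} : Set X) →
      P ∉ CohB1.genLocus (Omega.sheaf p) (homOf t) → FiniteDimensional k (X.residueField P) ∧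
        Module.finrank k (X.residueField P) ≤ 2 * Curv2.genus k X - 2 := fun t ht P hP hPn => by
    obtain ⟨h1, h2⟩ := finrank_residue_le (k := k) hdim hI ht hP hPn
    rw [edeg] at h2
    exact ⟨h1, by omega⟩
  cases finite_or_infinite k with
  | inl hk =>
    obtain ⟨t, ht⟩ : ∃ t : Γ(Omega.sheaf p, (⊤ : X.Opens)), t ≠ 0 := by
      by_contra! hall
      letI := secMod k (Omega.sheaf p) ⊤
      haveI : Subsingleton Γ(Omega.sheaf p, (⊤ : X.Opens)) := ⟨fun a b => (hall a).trans (hall b).symm⟩
      rw [← finrank_sec, Module.finrank_zero_of_subsingleton] at e0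
      omega
    obtain ⟨P, hP, hPn⟩ := exists_zero (k := k) hdim (by rw [edeg]; omega) t
    obtain ⟨h1, h2⟩ := fin t ht P hP hPn
    exact ⟨P, hP, inferInstance, h2, h1⟩
  | inr hk =>
    have hd := OmegaLib.isUniversal_dOmega p
    obtain ⟨W₁, hW₁, t, s, f₁, hη₁, hgen₁, hres₁, hdf₁⟩ := exists_ratio k X hdim h0 hg hd
    set d := OmegaSh.dOmega p
    obtain ⟨b, hb⟩ := (hgen₁ W₁ le_rfl).2 (d.app W₁ f₁)
    change b • res _ le_rfl (res (Omega.sheaf p) (le_top : W₁ ≤ ⊤) t) = _ at hb
    rw [res_self] at hb
    have hb0 : b ≠ 0 := fun e => hdf₁ (by rw [← hb, e, zero_smul])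
    have hηb : genericPoint X ∈ X.basicOpen b := by
      rw [Scheme.mem_basicOpen X b (genericPoint X) hη₁, isUnit_iff_ne_zero]
      exact fun e => hb0 (germ_injective_of_isIntegral X (genericPoint X) hη₁ (e.trans (map_zero _).symm))
    have hWW : X.basicOpen b ≤ W₁ := X.basicOpen_le b
    set W := X.basicOpen b with hWdef
    have hW : IsAffineOpen W := hW₁.basicOpen b
    set f := resO X hWW f₁
    have hbu : IsUnit (resO X hWW b) := RingedSpace.isUnit_res_basicOpen _ b
    have hdf : d.app W f = resO X hWW b • res (Omega.sheaf p) (le_top : W ≤ ⊤) t := by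
      rw [← OmegaLib.res_app, ← hb, res_smul, res_res]
    have hgenW : IsGen (res (Omega.sheaf p) (le_top : W ≤ ⊤) t) := by
      have h := hgen₁.res hWW
      rwa [res_res] at h
    have hres : res (Omega.sheaf p) (le_top : W ≤ ⊤) s = f • res (Omega.sheaf p) (le_top : W ≤ ⊤) t := by
      rw [← res_res _ hWW le_top s, hres₁, res_smul, res_res]
    have hne : d.app W f ≠ 0 := fun e => by
      have h1 : res (Omega.sheaf p) (le_top : W ≤ ⊤) t = 0 := by
        rw [← hbu.smul_eq_zero, ← hdf, e]
      have h2 : d.app W₁ f₁ = 0 := by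
        refine CurveRR.eq_zero_of_germ_generic hI _ hη₁ ?_
        rw [← WeakAssLib.mgerm_res _ hWW hηb, OmegaLib.res_app]
        exact (congrArg _ e).trans (map_zero _)
      exact hdf₁ h2
    -- the algebra of functions
    letI algB : Algebra k Γ(X, W) := (cst k X W).toAlgebra
    haveI : IsDomain Γ(X, W) := by
      haveI : Nonempty W := ⟨⟨_, hηb⟩⟩
      infer_instance
    let e : W ≤ p ⁻¹ᵁ ⊤ := le_top
    let ι := (Scheme.ΓSpecIso (CommRingCat.of k)).inv
    have hcst : ∀ c, cst k X W c = (p.appLE ⊤ W e).hom (ι.hom c) := fun c => rfl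
    haveI : Algebra.FiniteType k Γ(X, W) := by
      have h1 := HasRingHomProperty.appLE @LocallyOfFiniteType p inferInstance
        ⟨⊤, isAffineOpen_top (Spec (CommRingCat.of k))⟩ ⟨W, hW⟩ e
      have h2 : (cst k X W).FiniteType := by
        rw [show cst k X W = (p.appLE ⊤ W e).hom.comp ι.hom from RingHom.ext hcst]
        exact h1.comp (RingHom.FiniteType.of_surjective _ (ConcreteCategory.bijective_of_isIso ι).2)
      exact h2
    have htr : Transcendental k f := fun halg => by
      obtain ⟨c, hc⟩ := exists_cst_of_integral hdim h0 hηb halg.isIntegral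
      exact hne (by rw [hc, hcst]; exact OmegaLib.app_appLE d e _)
    obtain ⟨a, m, hm, hfa⟩ := exists_maximal_sub_mem htr
    -- the point
    set y : PrimeSpectrum Γ(X, W) := ⟨m, hm.isPrime⟩ with hy
    set x : X := hW.fromSpec y with hxdef
    have hxW : x ∈ W := hW.range_fromSpec.le ⟨y, rfl⟩
    have hpr : hW.primeIdealOf ⟨x, hxW⟩ = y :=
      hW.fromSpec.isOpenEmbedding.injective (hW.fromSpec_primeIdealOf ⟨x, hxW⟩)
    let ev : Γ(X, W) →+* X.residueField x := (X.residue x).hom.comp (X.presheaf.germ W x hxW).hom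
    letI : Algebra Γ(X, W) (X.presheaf.stalk x) := (X.presheaf.germ W x hxW).hom.toAlgebra
    haveI hloc : IsLocalization.AtPrime (X.presheaf.stalk x) (hW.primeIdealOf ⟨x, hxW⟩).asIdeal :=
      hW.isLocalization_stalk ⟨x, hxW⟩
    haveI : IsLocalization.AtPrime (X.presheaf.stalk x) m := by
      have := congrArg PrimeSpectrum.asIdeal hpr
      simpa [hy, this] using hloc
    have hker : RingHom.ker ev = m := by
      ext g
      rw [RingHom.mem_ker]
      show IsLocalRing.residue (X.presheaf.stalk x) (algebraMap Γ(X, W) (X.presheaf.stalk x) g) = 0 ↔ _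
      rw [IsLocalRing.residue_eq_zero_iff]
      exact IsLocalization.AtPrime.to_map_mem_maximal_iff (X.presheaf.stalk x) m g
    have hevs : Function.Surjective ev := fun z => by
      obtain ⟨z, rfl⟩ := IsLocalRing.residue_surjective z
      obtain ⟨⟨g, r⟩, hgr⟩ := IsLocalization.surj m.primeCompl z
      obtain ⟨r', w, hw, hrw⟩ := hm.exists_inv (x := (r : Γ(X, W))) r.2
      refine ⟨r' * g, ?_⟩
      have h1 : ev r' * ev (r : Γ(X, W)) = 1 := by
        rw [← map_mul, ← map_one ev, ← hrw, map_add, show ev w = 0 from (hker ▸ hw : w ∈ RingHom.ker ev), add_zero]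
      have h2 : (X.residue x).hom z * ev (r : Γ(X, W)) = ev g := by
        rw [← show (X.residue x).hom (algebraMap Γ(X, W) (X.presheaf.stalk x) g) = ev g from rfl, ← hgr, map_mul]
        rfl
      show ev (r' * g) = (X.residue x).hom z
      rw [map_mul, ← h2, mul_comm ((X.residue x).hom z), ← mul_assoc, h1]
      exact one_mul _
    have hxη : x ≠ genericPoint X := fun hx => by
      haveI : Nonempty W := ⟨⟨_, hηb⟩⟩
      have h1 : y = genericPoint (Spec Γ(X, W)) := by
        rw [← hW.primeIdealOf_genericPoint, ← hpr]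
        congr 2
      rw [genericPoint_eq_bot_of_affine] at h1
      have hbot : m = ⊥ := congrArg PrimeSpectrum.asIdeal h1
      rw [hbot, Ideal.mem_bot, sub_eq_zero] at hfa
      exact htr (hfa ▸ isAlgebraic_algebraMap a)
    have hxcl : IsClosed ({x} : Set X) := W7Cover.isClosed_of_ne_genericPoint p hdim.le hxη
    -- separability
    letI algE : Algebra Γ(X, W) (X.residueField x) := ev.toAlgebra
    haveI : IsScalarTower k Γ(X, W) (X.residueField x) := IsScalarTower.of_algebraMap_eq fun c => by
      show _ = ev (cst k X W c)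
      exact congrArg (X.residue x).hom
        ((X.presheaf.germ_res_apply (homOfLE (le_top : W ≤ ⊤)) x hxW _).trans rfl).symm
    have hgenD : Submodule.span Γ(X, W) {KaehlerDifferential.D k Γ(X, W) f} = ⊤ := by
      letI algR : Algebra Γ(Spec (CommRingCat.of k), ⊤) Γ(X, W) := (p.appLE ⊤ W e).hom.toAlgebra
      letI algk : Algebra Γ(Spec (CommRingCat.of k), ⊤) k := (Scheme.ΓSpecIso (CommRingCat.of k)).hom.hom.toAlgebra
      haveI : IsScalarTower Γ(Spec (CommRingCat.of k), ⊤) k Γ(X, W) := IsScalarTower.of_algebraMap_eq fun r => by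
        show (p.appLE ⊤ W e).hom r = cst k X W ((Scheme.ΓSpecIso (CommRingCat.of k)).hom.hom r)
        rw [hcst]
        congr 1
        exact (ConcreteCategory.congr_hom (Scheme.ΓSpecIso (CommRingCat.of k)).hom_inv_id r).symm
      obtain ⟨L, hL⟩ := OmegaLib.exists_linearEquiv hd e hW (isAffineOpen_top (Spec (CommRingCat.of k)))
      refine top_le_iff.1 ?_
      rw [← KaehlerDifferential.span_range_derivation k Γ(X, W), Submodule.span_le]
      rintro _ ⟨g, rfl⟩
      obtain ⟨c, hc⟩ := (hgenW W le_rfl).2 (d.app W g)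
      change c • res _ le_rfl (res (Omega.sheaf p) (le_top : W ≤ ⊤) t) = _ at hc
      rw [res_self] at hc
      obtain ⟨v, hv⟩ := hbu.exists_left_inv
      have h3 : d.app W g = (c * v) • d.app W f := by
        rw [hdf, smul_smul, mul_assoc, hv, mul_one, hc]
      have h4 := congrArg (fun q => KaehlerDifferential.map Γ(Spec (CommRingCat.of k), ⊤) k Γ(X, W) Γ(X, W) (L q)) h3
      simp only [map_smul, hL, KaehlerDifferential.map_D] at h4
      exact Submodule.mem_span_singleton.2 ⟨c * v, h4.symm⟩
    haveI : Subsingleton (KaehlerDifferential k (X.residueField x)) := by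
      have hsurj := KaehlerDifferential.map_surjective_of_surjective k k Γ(X, W) (X.residueField x) hevs
      refine subsingleton_of_forall_eq 0 fun w => ?_
      obtain ⟨w, rfl⟩ := hsurj w
      have hw : w ∈ Submodule.span Γ(X, W) {KaehlerDifferential.D k Γ(X, W) f} := by rw [hgenD]; trivial
      obtain ⟨c, rfl⟩ := Submodule.mem_span_singleton.1 hw
      rw [map_smul, KaehlerDifferential.map_D,
        show algebraMap Γ(X, W) (X.residueField x) f = algebraMap k (X.residueField x) a from by
          rw [IsScalarTower.algebraMap_apply k Γ(X, W) (X.residueField x), ← sub_eq_zero, ← map_sub]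
          exact (hker ▸ hfa : f - algebraMap k Γ(X, W) a ∈ RingHom.ker ev),
        Derivation.map_algebraMap, smul_zero]
    -- the section vanishing at the point
    let s' : Γ(Omega.sheaf p, (⊤ : X.Opens)) := s - cst k X ⊤ a • t
    have hs' : res (Omega.sheaf p) (le_top : W ≤ ⊤) s' =
        (f - algebraMap k Γ(X, W) a) • res (Omega.sheaf p) (le_top : W ≤ ⊤) t := by
      rw [map_sub, hres, res_smul, sub_smul]
      congr 2
      exact resO_resO _ _ _
    have hs0 : s' ≠ 0 := fun e0 => by
      have h1 : (f - algebraMap k Γ(X, W) a) • res (Omega.sheaf p) (le_top : W ≤ ⊤) t =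
          (0 : Γ(X, W)) • res (Omega.sheaf p) (le_top : W ≤ ⊤) t := by rw [← hs', e0, map_zero, zero_smul]
      have h2 := (hgenW W le_rfl).1 (a₁ := f - algebraMap k Γ(X, W) a) (a₂ := 0) (by
        show _ • res _ le_rfl _ = _ • res _ le_rfl _
        rw [res_self]; exact h1)
      exact htr (sub_eq_zero.1 h2 ▸ isAlgebraic_algebraMap a)
    have hxn : x ∉ CohB1.genLocus (Omega.sheaf p) (homOf s') := fun hx => by
      have hu := (TMul.mem_genLocus_iff_isUnit _ hgenW (c := f - algebraMap k Γ(X, W) a)
        (by rw [val_homOf, hs']) hxW).mp hx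
      exact (IsLocalRing.mem_maximalIdeal _).1
        ((IsLocalization.AtPrime.to_map_mem_maximal_iff (X.presheaf.stalk x) m _).2 hfa) hu
    obtain ⟨hfin, hle⟩ := fin s' hs0 x hxcl hxn
    haveI := hfin
    haveI : Algebra.FormallyUnramified k (X.residueField x) := ⟨inferInstance⟩
    exact ⟨x, hxcl, Algebra.FormallyUnramified.isSeparable k _, hle, hfin⟩

end Groth.Agent.GenSepPt
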